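import Mathlib
import Cfsg.Prelude.Def_Sporadic_a
import Cfsg.Prelude.Def_SporadicCombinatorics
import Cfsg.Agent.Lib.H27.Co0Order

/-!
# S1572, piece (P23): the prime 23

If `N ≤ K ≤ Co0` with `N` the stabiliser of the standard cross, then `|K : N| ≡ 1 (mod 23)`:
the coordinate translation `s` of order 23 lies in `N`, and a conjugate `k⁻¹ s k` stabilises the standard cross
only if `k` does (an element of order 23 permuting the 48 vectors of the cross `k • std` fixes one of them, and
the only vectors of squared length 64 fixed by `s` are `± 8 e_∞`).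
-/

set_option autoImplicit false

namespace Cfsg.Agent.Lib.H7.CoMax

open Cfsg Cfsg.Agent.Lib.H27 Cfsg.Agent.Lib.H28

/-- an automorphism mapping ONE vector of the standard cross into the standard cross stabilises it -/
theorem stabCross_of_map {g : Co0} {u : leechLattice} (hu : (u : GolayPt → ℤ) ∈ stdCross)
    (hgu : ((g • u : leechLattice) : GolayPt → ℤ) ∈ stdCross) : StabCross g := by
  intro v hv
  obtain ⟨z, hz, e⟩ := stdCross_congr hu hv
  apply mem_stdCross_of_congr (g • v).2 _ hgu
  · refine ⟨((g • (⟨z, hz⟩ : leechLattice) : leechLattice) : GolayPt → ℤ),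
      (g • (⟨z, hz⟩ : leechLattice) : leechLattice).2, ?_⟩
    have e' : u - v = (⟨z, hz⟩ : leechLattice) + ⟨z, hz⟩ := by
      apply Subtype.ext
      rw [AddSubgroup.coe_sub, AddSubgroup.coe_add, e, two_nsmul]
    have := congrArg (fun w : leechLattice => (g • w : leechLattice)) e'
    simp only [Co0_smul_sub, Co0_smul_add] at this
    have := congrArg (fun w : leechLattice => (w : GolayPt → ℤ)) this
    simp only [AddSubgroup.coe_sub, AddSubgroup.coe_add] at this
    rw [this, two_nsmul]
  · rw [Co0_sqNorm]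
    exact sqNorm_stdCross hv

theorem stabCross_one : StabCross 1 := by
  intro v hv
  rw [one_smul]; exact hv

theorem stabCross_mul {a b : Co0} (ha : StabCross a) (hb : StabCross b) : StabCross (a * b) := by
  intro v hv
  rw [mul_smul]
  exact ha _ (hb v hv)

/-- the translation of order 23 -/
noncomputable def s23 : Co0 := permCo0 permS permS_mem_M24

theorem s23_stab : StabCross s23 := monoCo0_stab permS permS_mem_M24 0 golayCode.zero_mem

theorem s23_pow_smul (n : ℕ) (v : leechLattice) (k : GolayPt) :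
    ((s23 ^ n • v : leechLattice) : GolayPt → ℤ) k = (v : GolayPt → ℤ) ((permS ^ n).symm k) := by
  induction n generalizing v k with
  | zero => rw [pow_zero, one_smul, pow_zero]; rfl
  | succ n ih =>
    rw [pow_succ, mul_smul, ih, s23, permCo0_smul, pow_succ]
    rfl

theorem permS_pow : permS ^ 23 = 1 := by
  unfold permS
  decide +kernel

theorem s23_pow : s23 ^ 23 = 1 := by
  apply Co0_ext
  intro v
  funext k
  rw [s23_pow_smul, permS_pow, one_smul]
  rfl

/-- coordinates of a vector fixed by `s23` are constant on the 23 finite points -/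
theorem fix_s23_const {y : leechLattice} (h : s23 • y = y) (x : ZMod 23) :
    (y : GolayPt → ℤ) (some x) = (y : GolayPt → ℤ) (some 0) := by
  have h1 : ∀ k : GolayPt, (y : GolayPt → ℤ) (permS.symm k) = (y : GolayPt → ℤ) k := by
    intro k
    have := congrArg (fun w : leechLattice => (w : GolayPt → ℤ) k) h
    simp only [s23, permCo0_smul] at this
    exact this
  have h2 : ∀ z : ZMod 23, (y : GolayPt → ℤ) (some z) = (y : GolayPt → ℤ) (some (z + 1)) := by
    intro z
    have := h1 (some (z + 1))
    rw [← this]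
    have e : permS.symm (some (z + 1)) = some z := by
      rw [Equiv.symm_apply_eq]
      rfl
    rw [e]
  have h3 : ∀ n : ℕ, (y : GolayPt → ℤ) (some (n : ZMod 23)) = (y : GolayPt → ℤ) (some 0) := by
    intro n
    induction n with
    | zero => rw [Nat.cast_zero]
    | succ n ih => rw [Nat.cast_succ, ← h2, ih]
  have := h3 x.val
  rwa [ZMod.natCast_zmod_val] at this

theorem int_sq_23 (a b : ℤ) (h : a ^ 2 + 23 * b ^ 2 = 64) : b = 0 ∧ (a = 8 ∨ a = -8) := by
  have h1 : b ^ 2 ≤ 2 := by nlinarith [sq_nonneg a]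
  have h3 : -1 ≤ b := by nlinarith
  have h4 : b ≤ 1 := by nlinarith
  have h7 : -8 ≤ a := by nlinarith [sq_nonneg b]
  have h8 : a ≤ 8 := by nlinarith [sq_nonneg b]
  interval_cases b <;> interval_cases a <;> simp_all

/-- a vector of squared length 64 fixed by `s23` lies in the standard cross -/
theorem fix_s23_mem {y : leechLattice} (h : s23 • y = y) (hn : sqNorm (y : GolayPt → ℤ) = 64) :
    (y : GolayPt → ℤ) ∈ stdCross := by
  have hc := fix_s23_const h
  have hsum : (y : GolayPt → ℤ) none ^ 2 + 23 * (y : GolayPt → ℤ) (some 0) ^ 2 = 64 := by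
    rw [← hn]
    unfold sqNorm
    rw [Fintype.sum_option]
    have : ∀ x : ZMod 23, (y : GolayPt → ℤ) (some x) ^ 2 = (y : GolayPt → ℤ) (some 0) ^ 2 :=
      fun x => by rw [hc x]
    simp only [this, Finset.sum_const, Finset.card_univ, ZMod.card, nsmul_eq_mul]
    push_cast
    ring
  obtain ⟨hb0, ha8⟩ := int_sq_23 _ _ hsum
  refine ⟨none, (y : GolayPt → ℤ) none, ha8, ?_⟩
  funext k
  cases k with
  | none => simp
  | some x => rw [hc x, hb0]; simp

theorem finite_Co0' : Finite Co0 :=
  Nat.finite_of_card_ne_zero (by rw [card_Co0]; norm_num)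

/-- the 48 vectors of the standard cross -/
abbrev StdVec : Type := {v : leechLattice // (v : GolayPt → ℤ) ∈ stdCross}

/-- parametrisation of the standard cross -/
def stdVecMap (p : GolayPt × Bool) : StdVec :=
  ⟨⟨Pi.single p.1 (if p.2 then 8 else -8),
      single8_mem_leech ⟨p.1, _, by cases p.2 <;> simp, rfl⟩⟩,
    ⟨p.1, _, by cases p.2 <;> simp, rfl⟩⟩

theorem stdVecMap_bijective : Function.Bijective stdVecMap := by
  constructor
  · rintro ⟨i, b⟩ ⟨j, c⟩ h
    have h1 : (Pi.single i (if b then (8 : ℤ) else -8) : GolayPt → ℤ) =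
        Pi.single j (if c then (8 : ℤ) else -8) := by
      have := congrArg (fun v : StdVec => ((v.1 : leechLattice) : GolayPt → ℤ)) h
      exact this
    have hij : i = j := by
      by_contra hne
      have := congrFun h1 i
      rw [Pi.single_eq_same, Pi.single_eq_of_ne hne] at this
      cases b <;> simp at this
    subst hij
    have := congrFun h1 i
    rw [Pi.single_eq_same, Pi.single_eq_same] at this
    cases b <;> cases c <;> simp_all
  · rintro ⟨⟨y, hy⟩, hmem⟩
    obtain ⟨i, a, ha, hya⟩ := hmem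
    have hya' : y = Pi.single i a := hya
    subst hya'
    rcases ha with rfl | rfl
    · exact ⟨(i, true), rfl⟩
    · exact ⟨(i, false), rfl⟩

theorem card_stdVec : Nat.card StdVec = 48 := by
  rw [← Nat.card_eq_of_bijective _ stdVecMap_bijective, Nat.card_prod]
  simp [Nat.card_eq_fintype_card]

/-- an element of `Co0` of order dividing 23 stabilising the standard cross fixes one of its vectors -/
theorem exists_fixed_stdVec {g : Co0} (hg : StabCross g) (h23 : g ^ 23 = 1) :
    ∃ v : leechLattice, (v : GolayPt → ℤ) ∈ stdCross ∧ g • v = v := by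
  classical
  have : Finite StdVec := Finite.of_surjective _ stdVecMap_bijective.2
  have : Fintype StdVec := Fintype.ofFinite _
  have : Fact (Nat.Prime 23) := ⟨by norm_num⟩
  let f : Function.End StdVec := fun v => ⟨g • v.1, hg v.1 v.2⟩
  have hf : ∀ (n : ℕ) (v : StdVec), ((f ^ n) v).1 = g ^ n • v.1 := by
    intro n
    induction n with
    | zero => intro v; rw [pow_zero, pow_zero, one_smul]; rfl
    | succ n ih =>
      intro v
      rw [pow_succ, pow_succ, mul_smul]
      show ((f ^ n) (f v)).1 = _
      rw [ih]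
  have hf23 : f ^ 23 ^ 1 = 1 := by
    funext v
    apply Subtype.ext
    rw [pow_one, hf, h23, one_smul]
    rfl
  have hcard := Equiv.Perm.card_fixedPoints_modEq (p := 23) (n := 1) hf23
  rw [← Nat.card_eq_fintype_card, card_stdVec] at hcard
  have hne : Fintype.card (Function.fixedPoints f) ≠ 0 := by
    intro h0
    rw [h0] at hcard
    exact absurd hcard (by decide)
  obtain ⟨⟨v, hv⟩⟩ := Fintype.card_pos_iff.mp (Nat.pos_of_ne_zero hne)
  refine ⟨v.1, v.2, ?_⟩
  have := congrArg Subtype.val hv
  exact this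

/-- **Key lemma**: if a conjugate of `s23` stabilises the standard cross, so does the conjugating element. -/
theorem stabCross_of_conj {k : Co0} (h : StabCross (k⁻¹ * s23 * k)) : StabCross k := by
  have h23 : (k⁻¹ * s23 * k) ^ 23 = 1 := by
    have e : k⁻¹ * s23 * k = k⁻¹ * s23 * (k⁻¹)⁻¹ := by rw [inv_inv]
    rw [e, conj_pow, s23_pow]; group
  obtain ⟨v, hv, hfix⟩ := exists_fixed_stdVec h h23
  -- `s23` fixes `k • v`
  have h1 : s23 • (k • v) = k • v := by
    have := congrArg (fun w : leechLattice => k • w) hfix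
    simp only [← mul_smul] at this
    rw [← mul_smul]
    have e : k * (k⁻¹ * s23 * k) = s23 * k := by group
    rw [e] at this
    exact this
  have h2 : sqNorm ((k • v : leechLattice) : GolayPt → ℤ) = 64 := by
    rw [Co0_sqNorm]; exact sqNorm_stdCross hv
  exact stabCross_of_map hv (fix_s23_mem h1 h2)

/-- **(P23)** the index of the cross stabiliser in any overgroup is `≡ 1 (mod 23)`. -/
theorem relIndex_modEq_one (N K : Subgroup Co0) (hN : ∀ g : Co0, g ∈ N ↔ StabCross g) (hNK : N ≤ K) :
    N.relIndex K ≡ 1 [MOD 23] := by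
  classical
  have := finite_Co0'
  have : Fact (Nat.Prime 23) := ⟨by norm_num⟩
  have hsN : s23 ∈ N := (hN _).mpr s23_stab
  let sK : K := ⟨s23, hNK hsN⟩
  have hsK23 : sK ^ 23 = 1 := Subtype.ext (by
    show ((sK ^ 23 : K) : Co0) = 1
    rw [Subgroup.coe_pow]; exact s23_pow)
  let Z : Subgroup K := Subgroup.zpowers sK
  have hZ : IsPGroup 23 Z := by
    rintro ⟨z, j, rfl⟩
    refine ⟨1, Subtype.ext ?_⟩
    show (sK ^ j) ^ 23 ^ 1 = 1
    rw [pow_one, ← zpow_natCast, ← zpow_mul, mul_comm, zpow_mul, zpow_natCast, hsK23, one_zpow]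
  have hcard := hZ.card_modEq_card_fixedPoints (K ⧸ N.subgroupOf K)
  have hfix : MulAction.fixedPoints Z (K ⧸ N.subgroupOf K) = {((1 : K) : K ⧸ N.subgroupOf K)} := by
    ext a
    rw [MulAction.mem_fixedPoints, Set.mem_singleton_iff]
    constructor
    · intro h
      induction a using QuotientGroup.induction_on with
      | H k =>
        have h1 := h ⟨sK, Subgroup.mem_zpowers sK⟩
        have h2 : ((sK * k : K) : K ⧸ N.subgroupOf K) = (k : K ⧸ N.subgroupOf K) := h1
        rw [QuotientGroup.eq, Subgroup.mem_subgroupOf] at h2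
        -- `(sK * k)⁻¹ * k ∈ N`
        have h3 : ((k : Co0))⁻¹ * s23⁻¹ * (k : Co0) ∈ N := by
          have : (((sK * k)⁻¹ * k : K) : Co0) = ((k : Co0))⁻¹ * s23⁻¹ * (k : Co0) := by
            simp [sK, mul_assoc]
          rwa [this] at h2
        have h4 : ((k : Co0))⁻¹ * s23 * (k : Co0) ∈ N := by
          have := N.inv_mem h3
          have e : (((k : Co0))⁻¹ * s23⁻¹ * (k : Co0))⁻¹ = ((k : Co0))⁻¹ * s23 * (k : Co0) := by group
          rwa [e] at this
        have h5 : (k : Co0) ∈ N := (hN _).mpr (stabCross_of_conj ((hN _).mp h4))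
        rw [QuotientGroup.eq, Subgroup.mem_subgroupOf]
        simpa using h5
    · rintro rfl ⟨z, j, rfl⟩
      show ((sK ^ j * 1 : K) : K ⧸ N.subgroupOf K) = _
      rw [QuotientGroup.eq, Subgroup.mem_subgroupOf]
      have : ((sK ^ j * 1 : K) : Co0) = s23 ^ j := by simp [sK]
      have h6 : s23 ^ j ∈ N := N.zpow_mem hsN j
      simpa [this] using N.inv_mem h6
  rw [hfix] at hcard
  have h1 : Nat.card (({((1 : K) : K ⧸ N.subgroupOf K)} : Set (K ⧸ N.subgroupOf K))) = 1 := by
    rw [Nat.card_eq_one_iff_unique]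
    exact ⟨⟨fun a b => Subtype.ext (a.2.trans b.2.symm)⟩, ⟨⟨_, rfl⟩⟩⟩
  rw [h1] at hcard
  rw [Subgroup.relIndex, Subgroup.index_eq_card]
  exact hcard

end Cfsg.Agent.Lib.H7.CoMax
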