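import Mathlib
import Cfsg.Prelude.Def_Sporadic_a
import Cfsg.Prelude.Def_SporadicCombinatorics
import Cfsg.Agent.Lib.H27.ConwayOrders
import Cfsg.Agent.Lib.H7.CoMax.P23

/-!
# S1572: common definitions

`N` = the monomial group `2^12 : M24` = the stabiliser of the standard cross (`StabCross`).
`NRel` = "same `N`-orbit" on lattice vectors; `cv0 = (4,4,0,…,0)`; `NvRel` = "same orbit of `N ∩ Stab(cv0)`";
`T0` = the 4600 minimal vectors having inner product 16 with `cv0`.
-/

set_option autoImplicit false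

namespace Cfsg.Agent.Lib.H7.CoMax

open Cfsg Cfsg.Agent.Lib.H27 Cfsg.Agent.Lib.H28

/-- two lattice vectors in the same orbit of the monomial group `N` -/
def NRel (v w : leechLattice) : Prop := ∃ g : Co0, StabCross g ∧ g • v = w

theorem NRel.refl (v : leechLattice) : NRel v v := ⟨1, stabCross_one, one_smul _ _⟩

theorem NRel.trans {u v w : leechLattice} (h : NRel u v) (h' : NRel v w) : NRel u w := by
  obtain ⟨g, hg, rfl⟩ := h
  obtain ⟨g', hg', rfl⟩ := h'
  exact ⟨g' * g, stabCross_mul hg' hg, mul_smul g' g u⟩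

theorem permCo0_stab (σ : Equiv.Perm GolayPt) (hσ : σ ∈ M24) : StabCross (permCo0 σ hσ) :=
  monoCo0_stab σ hσ 0 golayCode.zero_mem

theorem signCo0_stab (c : GolayPt → ZMod 2) (hc : c ∈ golayCode) : StabCross (signCo0 c hc) :=
  monoCo0_stab 1 (one_mem _) c hc

theorem nRel_perm (σ : Equiv.Perm GolayPt) (hσ : σ ∈ M24) (v : leechLattice) :
    NRel v (permCo0 σ hσ • v) := ⟨_, permCo0_stab σ hσ, rfl⟩

theorem nRel_sign {v w : leechLattice} (c : GolayPt → ZMod 2) (hc : c ∈ golayCode)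
    (h : ∀ k, (w : GolayPt → ℤ) k
      = if k ∈ support₂ c then -(v : GolayPt → ℤ) k else (v : GolayPt → ℤ) k) : NRel v w := by
  refine ⟨signCo0 c hc, signCo0_stab c hc, Subtype.ext (funext fun k => ?_)⟩
  rw [signCo0_smul, h]

/-- Odd vectors with the same absolute values differ by a sign change on a code word. -/
theorem sign_fix_odd_c {v w : leechLattice}
    (habs : ∀ k, |(w : GolayPt → ℤ) k| = |(v : GolayPt → ℤ) k|)
    (hodd : (v : GolayPt → ℤ) none % 2 = 1) :
    ∃ c ∈ golayCode, ∀ k, (w : GolayPt → ℤ) k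
      = if k ∈ support₂ c then -(v : GolayPt → ℤ) k else (v : GolayPt → ℤ) k := by
  have hd : ((v - w : leechLattice) : GolayPt → ℤ) ∈ leechLattice := (v - w).2
  obtain ⟨m, c, hm, hc, h1, _⟩ := exists_leechDesc_normal hd
  have hvodd : ∀ k, (v : GolayPt → ℤ) k % 2 = 1 := fun k => by
    rw [leech_parity v.2 k none]; exact hodd
  have hm0 : m = 0 := by
    rcases hm with rfl | rfl
    · rfl
    · exfalso
      have h := h1 none
      rw [AddSubgroup.coe_sub, Pi.sub_apply] at h
      have hv := hvodd none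
      rcases eq_or_eq_neg_of_abs (habs none) with e | e <;> rw [e] at h <;>
        unfold Int.ModEq at h <;> omega
  subst hm0
  refine ⟨c, hc, ?_⟩
  intro k
  have h := h1 k
  rw [AddSubgroup.coe_sub, Pi.sub_apply] at h
  have hv := hvodd k
  have hck : c k = 0 ∨ c k = 1 := by
    have : ∀ b : ZMod 2, b = 0 ∨ b = 1 := by decide
    exact this _
  rcases hck with e0 | e1
  · rw [e0] at h
    rw [if_neg (fun hmem => (mem_support₂_iff c k).1 hmem e0)]
    simp only [ZMod.val_zero, Nat.cast_zero, mul_zero, add_zero] at h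
    rcases eq_or_eq_neg_of_abs (habs k) with e | e
    · exact e
    · exfalso
      rw [e] at h
      unfold Int.ModEq at h
      omega
  · rw [e1] at h
    rw [if_pos ((mem_support₂_iff c k).2 (by rw [e1]; decide))]
    have h1' : ((1 : ZMod 2).val : ℤ) = 1 := by decide
    rw [h1'] at h
    rcases eq_or_eq_neg_of_abs (habs k) with e | e
    · exfalso
      rw [e] at h
      unfold Int.ModEq at h
      omega
    · exact e

/-- Vectors with the same absolute values differ by a sign change on a code word as soon as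
the set of sign differences meets evenly every code word inside the support. -/
theorem sign_fix_even_c {v w : leechLattice}
    (habs : ∀ k, |(w : GolayPt → ℤ) k| = |(v : GolayPt → ℤ) k|)
    (hT : ∀ c ∈ golayCode, (∀ k, c k ≠ 0 → (v : GolayPt → ℤ) k ≠ 0) →
      Even (Finset.univ.filter fun k => c k ≠ 0 ∧ (w : GolayPt → ℤ) k ≠ (v : GolayPt → ℤ) k).card) :
    ∃ c ∈ golayCode, ∀ k, (w : GolayPt → ℤ) k
      = if k ∈ support₂ c then -(v : GolayPt → ℤ) k else (v : GolayPt → ℤ) k := by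
  classical
  set T : Finset GolayPt := Finset.univ.filter fun k => (v : GolayPt → ℤ) k ≠ 0 with hTdef
  set S : Finset GolayPt :=
    Finset.univ.filter fun k => (w : GolayPt → ℤ) k ≠ (v : GolayPt → ℤ) k with hSdef
  have hST : S ⊆ T := by
    intro k hk
    rw [hSdef, Finset.mem_filter] at hk
    rw [hTdef, Finset.mem_filter]
    refine ⟨Finset.mem_univ _, fun h0 => hk.2 ?_⟩
    have := habs k
    rw [h0, abs_zero, abs_eq_zero] at this
    rw [this, h0]
  obtain ⟨c, hc, hcT⟩ := golay_restrict_surj T S hST (by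
    intro c hc hsub
    have := hT c hc (fun k hk => by
      have := hsub ((mem_support₂_iff c k).2 hk)
      rw [hTdef, Finset.mem_filter] at this
      exact this.2)
    convert this using 2
    ext k
    rw [Finset.mem_inter, mem_support₂_iff, hSdef, Finset.mem_filter, Finset.mem_filter]
    simp)
  refine ⟨c, hc, ?_⟩
  intro k
  by_cases hk : (v : GolayPt → ℤ) k = 0
  · have := habs k
    rw [hk, abs_zero, abs_eq_zero] at this
    rw [this, hk]
    simp
  · have hkT : k ∈ T := by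
      rw [hTdef, Finset.mem_filter]; exact ⟨Finset.mem_univ _, hk⟩
    have hiff : k ∈ support₂ c ↔ k ∈ S := by
      rw [← hcT, Finset.mem_inter]
      exact ⟨fun h => ⟨h, hkT⟩, fun h => h.1⟩
    by_cases hkS : k ∈ S
    · rw [if_pos (hiff.2 hkS)]
      rw [hSdef, Finset.mem_filter] at hkS
      rcases eq_or_eq_neg_of_abs (habs k) with e | e
      · exact absurd e hkS.2
      · exact e
    · rw [if_neg (fun h => hkS (hiff.1 h))]
      rw [hSdef, Finset.mem_filter] at hkS
      by_contra hne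
      exact hkS ⟨Finset.mem_univ _, hne⟩


theorem nsign_fix_odd {v w : leechLattice}
    (habs : ∀ k, |(w : GolayPt → ℤ) k| = |(v : GolayPt → ℤ) k|)
    (hodd : (v : GolayPt → ℤ) none % 2 = 1) : NRel v w := by
  obtain ⟨c, hc, h⟩ := sign_fix_odd_c habs hodd
  exact nRel_sign c hc h

theorem nsign_fix_even {v w : leechLattice}
    (habs : ∀ k, |(w : GolayPt → ℤ) k| = |(v : GolayPt → ℤ) k|)
    (hT : ∀ c ∈ golayCode, (∀ k, c k ≠ 0 → (v : GolayPt → ℤ) k ≠ 0) →
      Even (Finset.univ.filter fun k => c k ≠ 0 ∧ (w : GolayPt → ℤ) k ≠ (v : GolayPt → ℤ) k).card) :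
    NRel v w := by
  obtain ⟨c, hc, h⟩ := sign_fix_even_c habs hT
  exact nRel_sign c hc h

/-- the three base points -/
def p1 : GolayPt := none
def p2 : GolayPt := some 0
def p3 : GolayPt := some 1

theorem p1_ne_p2 : p1 ≠ p2 := by decide
theorem p1_ne_p3 : p1 ≠ p3 := by decide
theorem p2_ne_p3 : p2 ≠ p3 := by decide

/-- `cv0 = 4 e_{p1} + 4 e_{p2}` -/
def cv0 : leechLattice :=
  ⟨vec44 p1 p2 4, by rw [← minGen_eq]; exact vec44_mem _ _ p1_ne_p2 4 (Or.inl rfl)⟩

/-- `cw0 = 4 e_{p1} + 4 e_{p3}` -/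
def cw0 : leechLattice :=
  ⟨vec44 p1 p3 4, by rw [← minGen_eq]; exact vec44_mem _ _ p1_ne_p3 4 (Or.inl rfl)⟩

theorem cv0_apply (k : GolayPt) : (cv0 : GolayPt → ℤ) k = if k = p1 ∨ k = p2 then 4 else 0 := by
  show vec44 p1 p2 4 k = _
  unfold vec44
  simp only [Pi.add_apply, Pi.single_apply]
  by_cases h1 : k = p1
  · subst h1; simp [p1_ne_p2]
  · by_cases h2 : k = p2
    · subst h2; simp [p1_ne_p2.symm]
    · simp [h1, h2]

theorem cw0_apply (k : GolayPt) : (cw0 : GolayPt → ℤ) k = if k = p1 ∨ k = p3 then 4 else 0 := by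
  show vec44 p1 p3 4 k = _
  unfold vec44
  simp only [Pi.add_apply, Pi.single_apply]
  by_cases h1 : k = p1
  · subst h1; simp [p1_ne_p3]
  · by_cases h2 : k = p3
    · subst h2; simp [p1_ne_p3.symm]
    · simp [h1, h2]

theorem dot_cv0 (x : GolayPt → ℤ) : dotInt (cv0 : GolayPt → ℤ) x = 4 * x p1 + 4 * x p2 := by
  unfold dotInt
  have : ∀ k, (cv0 : GolayPt → ℤ) k * x k =
      (Pi.single p1 (4 * x p1) : GolayPt → ℤ) k + (Pi.single p2 (4 * x p2) : GolayPt → ℤ) k := by
    intro k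
    rw [cv0_apply]
    simp only [Pi.single_apply]
    by_cases h1 : k = p1
    · subst h1; simp [p1_ne_p2]
    · by_cases h2 : k = p2
      · subst h2; simp [p1_ne_p2.symm]
      · simp [h1, h2]
  simp only [this, Finset.sum_add_distrib, Finset.sum_pi_single', Finset.mem_univ, if_true]

theorem cv0_isA : IsA (cv0 : GolayPt → ℤ) := by
  refine ⟨p1, p2, p1_ne_p2, fun k => ?_⟩
  rw [cv0_apply]
  split_ifs <;> simp

theorem sqNorm_cv0 : sqNorm (cv0 : GolayPt → ℤ) = 32 := by
  unfold sqNorm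
  have : ∀ k, (cv0 : GolayPt → ℤ) k ^ 2 =
      (Pi.single p1 (16 : ℤ) : GolayPt → ℤ) k + (Pi.single p2 (16 : ℤ) : GolayPt → ℤ) k := by
    intro k
    rw [cv0_apply]
    simp only [Pi.single_apply]
    by_cases h1 : k = p1
    · subst h1; simp [p1_ne_p2]
    · by_cases h2 : k = p2
      · subst h2; simp [p1_ne_p2.symm]
      · simp [h1, h2]
  simp only [this, Finset.sum_add_distrib, Finset.sum_pi_single', Finset.mem_univ, if_true]
  norm_num

/-- same orbit of `N ∩ Stab(cv0)` -/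
def NvRel (w w' : leechLattice) : Prop := ∃ g : Co0, StabCross g ∧ g • cv0 = cv0 ∧ g • w = w'

/-- the minimal vectors having inner product 16 with `cv0` -/
def T0 : Set leechLattice :=
  {x | sqNorm (x : GolayPt → ℤ) = 32 ∧ dotInt (cv0 : GolayPt → ℤ) (x : GolayPt → ℤ) = 16}

theorem ncard_T0 : T0.ncard = 4600 := by
  unfold T0
  rw [ncard_dot_sub cv0 16]
  exact nT_16 (mem_MinF.2 ⟨cv0.2, sqNorm_cv0⟩)

theorem mem_T0 {x : leechLattice} : x ∈ T0 ↔
    sqNorm (x : GolayPt → ℤ) = 32 ∧ (x : GolayPt → ℤ) p1 + (x : GolayPt → ℤ) p2 = 4 := by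
  unfold T0
  rw [Set.mem_ofPred_eq, dot_cv0]
  constructor
  · rintro ⟨h1, h2⟩; exact ⟨h1, by omega⟩
  · rintro ⟨h1, h2⟩; exact ⟨h1, by omega⟩

theorem cw0_isA : IsA (cw0 : GolayPt → ℤ) := by
  refine ⟨p1, p3, p1_ne_p3, fun k => ?_⟩
  rw [cw0_apply]
  split_ifs <;> simp

theorem sqNorm_cw0 : sqNorm (cw0 : GolayPt → ℤ) = 32 := by
  unfold sqNorm
  have : ∀ k, (cw0 : GolayPt → ℤ) k ^ 2 =
      (Pi.single p1 (16 : ℤ) : GolayPt → ℤ) k + (Pi.single p3 (16 : ℤ) : GolayPt → ℤ) k := by
    intro k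
    rw [cw0_apply]
    simp only [Pi.single_apply]
    by_cases h1 : k = p1
    · subst h1; simp [p1_ne_p3]
    · by_cases h2 : k = p3
      · subst h2; simp [p1_ne_p3.symm]
      · simp [h1, h2]
  simp only [this, Finset.sum_add_distrib, Finset.sum_pi_single', Finset.mem_univ, if_true]
  norm_num

theorem cw0_mem_T0 : cw0 ∈ T0 := by
  rw [mem_T0]
  refine ⟨sqNorm_cw0, ?_⟩
  rw [cw0_apply, cw0_apply]
  simp [p1_ne_p2.symm, p2_ne_p3]

end Cfsg.Agent.Lib.H7.CoMax
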